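import Groth.Agent.H27DPow.FreeMap
import Mathlib

/-!
# The monomial basis of a divided power polynomial algebra

A divided power algebra over `(B, J, δ)` with the universal property of `B⟨X_1, …, X_n⟩` is free
over `B` on the monomials `∏ X_l^{[e_l]}`.
-/

set_option autoImplicit false
universe u

open Finset TensorProduct

noncomputable section

namespace Groth.Agent.H27DPForms

open Groth.Agent.H27DPow

variable {Λ : Type}

/-- The rational polynomial `X^e / e!`. -/
def ratMon (e : Λ →₀ ℕ) : MvPolynomial Λ ℚ :=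
  MvPolynomial.monomial e ((efact e : ℚ)⁻¹)

theorem ratMon_mul (e f : Λ →₀ ℕ) :
    ratMon e * ratMon f = mulC e f • ratMon (e + f) := by
  rw [ratMon, ratMon, ratMon, MvPolynomial.monomial_mul, nsmul_eq_mul,
    ← map_natCast (MvPolynomial.C : ℚ →+* MvPolynomial Λ ℚ), MvPolynomial.C_mul_monomial]
  congr 1
  have h1 := efact_pos e
  have h2 := efact_pos f
  have h3 := efact_pos (e + f)
  have h : ((mulC e f : ℚ)) * ((efact e : ℚ) * efact f) = efact (e + f) := by exact_mod_cast mulC_spec e f
  field_simp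
  linarith

theorem ratMon_zero : ratMon (0 : Λ →₀ ℕ) = 1 := by
  simp [ratMon, efact, MvPolynomial.monomial_zero']

theorem ratMon_linearIndependent : LinearIndependent ℤ (ratMon (Λ := Λ)) := by
  rw [linearIndependent_iff']
  classical
  intro s g hg e he
  have h := congrArg (MvPolynomial.coeff e) hg
  simp only [MvPolynomial.coeff_sum, MvPolynomial.coeff_zero, ratMon, MvPolynomial.coeff_smul,
    MvPolynomial.coeff_monomial] at h
  rw [sum_eq_single e (fun b _ hb => by simp [MvPolynomial.coeff_monomial, hb]) (fun hn => absurd he hn),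
    if_pos rfl, zsmul_eq_mul, mul_eq_zero] at h
  rcases h with h | h
  · exact_mod_cast h
  · simp [(efact_pos e).ne'] at h

/-- The integral divided power polynomial ring inside the rational polynomial ring. -/
def intDP (Λ : Type) : Subalgebra ℤ (MvPolynomial Λ ℚ) :=
  (Submodule.span ℤ (Set.range (ratMon (Λ := Λ)))).toSubalgebra
    (ratMon_zero (Λ := Λ) ▸ Submodule.subset_span (Set.mem_range_self 0))
    (fun x y hx hy => by
      induction hx using Submodule.span_induction with
      | mem a ha =>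
        obtain ⟨e, rfl⟩ := ha
        induction hy using Submodule.span_induction with
        | mem c hc =>
          obtain ⟨f, rfl⟩ := hc
          rw [ratMon_mul]
          exact nsmul_mem (Submodule.subset_span (Set.mem_range_self (e + f))) _
        | zero => rw [mul_zero]; exact zero_mem _
        | add u v _ _ hu hv => rw [mul_add]; exact add_mem hu hv
        | smul c u _ hu => rw [mul_smul_comm]; exact Submodule.smul_mem _ c hu
      | zero => rw [zero_mul]; exact zero_mem _
      | add u v _ _ hu hv => rw [add_mul]; exact add_mem hu hv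
      | smul c u _ hu => rw [smul_mul_assoc]; exact Submodule.smul_mem _ c hu)

/-- Its basis. -/
def intDPBasis (Λ : Type) : Module.Basis (Λ →₀ ℕ) ℤ ↥(intDP Λ) :=
  Module.Basis.span (ratMon_linearIndependent (Λ := Λ))

theorem intDPBasis_coe (e : Λ →₀ ℕ) : ((intDPBasis Λ e : ↥(intDP Λ)) : MvPolynomial Λ ℚ) = ratMon e :=
  congrArg Subtype.val (Module.Basis.span_apply ratMon_linearIndependent e)

/-- A divided power algebra with the universal property of the divided power polynomial algebra
has the monomial basis. -/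
theorem exists_basis_of_universal {B : Type u} [CommRing B] {J : Ideal B} (δ : DividedPowers J) (n : ℕ)
    {P : Type u} [CommRing P] [Algebra B P] {JP : Ideal P} (δP : DividedPowers JP) (X : Fin n → P)
    (hX : ∀ i, X i ∈ JP) (hmor : δ.IsDPMorphism δP (algebraMap B P))
    (huniv : ∀ (C : Type u) [CommRing C] [Algebra B C] (K : Ideal C) (ε : DividedPowers K),
      δ.IsDPMorphism ε (algebraMap B C) → ∀ k : Fin n → C, (∀ i, k i ∈ K) →
        ∃! φ : P →ₐ[B] C, (∀ i, φ (X i) = k i) ∧ δP.IsDPMorphism ε φ.toRingHom) :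
    ∃ b : Module.Basis (Fin n →₀ ℕ) B P, ∀ e, b e = e.prod fun l k => δP.dpow k (X l) := by
  classical
  let b0 : Module.Basis (Fin n →₀ ℕ) B (B ⊗[ℤ] ↥(intDP (Fin n))) := (intDPBasis (Fin n)).baseChange B
  have hb0e : ∀ e, b0 e = (1 : B) ⊗ₜ[ℤ] intDPBasis (Fin n) e := fun e =>
    Module.Basis.baseChange_apply B (intDPBasis (Fin n)) e
  set x : Fin n → ℕ → (B ⊗[ℤ] ↥(intDP (Fin n))) := fun l k => b0 (Finsupp.single l k) with hx
  have hmul : ∀ e f, b0 e * b0 f = (mulC e f : (B ⊗[ℤ] ↥(intDP (Fin n)))) * b0 (e + f) := by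
    intro e f
    simp only [hb0e, Algebra.TensorProduct.tmul_mul_tmul, mul_one]
    have h : intDPBasis (Fin n) e * intDPBasis (Fin n) f = mulC e f • intDPBasis (Fin n) (e + f) := by
      apply Subtype.ext
      push_cast
      rw [intDPBasis_coe, intDPBasis_coe, intDPBasis_coe, ratMon_mul]
    rw [h, TensorProduct.tmul_smul, nsmul_eq_mul]
  have hb00 : b0 0 = 1 := by
    simp only [hb0e, Algebra.TensorProduct.one_def]
    congr 1
    exact Subtype.ext (by rw [intDPBasis_coe, ratMon_zero]; rfl)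
  have hx0 : ∀ l, x l 0 = 1 := fun l => by simp [hx, hb00]
  have hmulC : ∀ (l : Fin n) a c, mulC (Finsupp.single l a) (Finsupp.single l c) = (a + c).choose a := by
    intro l a c
    have h := mulC_spec (Finsupp.single l a) (Finsupp.single l c)
    rw [← Finsupp.single_add, efact_single, efact_single, efact_single] at h
    have h' := Nat.add_choose_mul_factorial_mul_factorial a c
    rw [← Nat.choose_symm_add] at h'
    rw [mul_assoc] at h'
    exact mul_right_cancel₀ (Nat.mul_ne_zero a.factorial_ne_zero c.factorial_ne_zero) (h.trans h'.symm)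
  have hxmul : ∀ l a c, x l a * x l c = ((a + c).choose a : (B ⊗[ℤ] ↥(intDP (Fin n)))) * x l (a + c) := fun l a c => by
    simp only [hx, hmul, hmulC, Finsupp.single_add]
  have hb : ∀ e, b0 e = bMon x e := by
    intro e
    induction e using Finsupp.induction with
    | zero => rw [hb00, bMon_zero]
    | single_add l k e hl hk ih =>
      rw [← one_mul (b0 (Finsupp.single l k + e))]
      have h1 : mulC (Finsupp.single l k) e = 1 := by
        rw [mulC]
        refine prod_eq_one fun j _ => ?_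
        by_cases hj : j = l
        · subst hj; simp [Finsupp.notMem_support_iff.1 hl]
        · simp [Finsupp.single_eq_of_ne hj]
      rw [show (1 : (B ⊗[ℤ] ↥(intDP (Fin n)))) = (mulC (Finsupp.single l k) e : (B ⊗[ℤ] ↥(intDP (Fin n)))) by simp [h1], ← hmul, ih]
      rw [bMon, bMon, Finsupp.prod_add_index_of_disjoint, Finsupp.prod_single_index (h := fun l k => x l k) (hx0 l)]
      exact Disjoint.mono_left Finsupp.support_single_subset (Finset.disjoint_singleton_left.2 hl)
  obtain ⟨γ, hγ⟩ := exists_dividedPowers_augI hx0 hxmul b0 hb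
  obtain ⟨δ0, ⟨hδ0, hδ0'⟩, -⟩ := existsUnique_compatible hx0 hxmul b0 hb δ γ
  have hx1 : ∀ l, x l 1 ∈ augI x := fun l => Ideal.subset_span ⟨l, 1, le_rfl, rfl⟩
  obtain ⟨φ, ⟨hφX, hφdp⟩, -⟩ := huniv (B ⊗[ℤ] ↥(intDP (Fin n))) _ δ0 hδ0 (fun l => x l 1) fun l => Submodule.mem_sup_right (hx1 l)
  obtain ⟨ψ, ⟨hψdp, hψX⟩, -⟩ := existsUnique_map hx0 hxmul b0 hb γ hγ JP δP X hX
  have hψdp' : δ0.IsDPMorphism δP ψ.toRingHom := by
    refine DividedPowers.IsDPMorphism.on_span δ0 δP
      (S := (algebraMap B (B ⊗[ℤ] ↥(intDP (Fin n))) '' (J : Set B)) ∪ (augI x : Set (B ⊗[ℤ] ↥(intDP (Fin n))))) ?_ ?_ ?_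
    · rw [Ideal.span_union, Ideal.span_eq]; rfl
    · rintro s (⟨r, hr, rfl⟩ | hs)
      · show ψ (algebraMap B (B ⊗[ℤ] ↥(intDP (Fin n))) r) ∈ JP
        rw [AlgHom.commutes]
        exact hmor.1 (Ideal.mem_map_of_mem _ hr)
      · exact hψdp.1 (Ideal.mem_map_of_mem _ hs)
    · rintro k a (⟨r, hr, rfl⟩ | ha)
      · show ψ (δ0.dpow k (algebraMap B (B ⊗[ℤ] ↥(intDP (Fin n))) r)) = δP.dpow k (ψ (algebraMap B (B ⊗[ℤ] ↥(intDP (Fin n))) r))
        rw [AlgHom.commutes, hδ0.2 r hr, AlgHom.commutes, hmor.2 r hr]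
      · rw [hδ0' k a ha]
        exact (hψdp.2 a ha).symm
  have hψb : ∀ e, ψ (b0 e) = e.prod fun l k => δP.dpow k (X l) := by
    intro e
    rw [hb, bMon, map_finsuppProd]
    refine Finsupp.prod_congr fun l _ => ?_
    rw [← hγ l]
    exact (hψdp.map_dpow (hx1 l)).trans (by show δP.dpow _ (ψ (x l 1)) = _; rw [hψX])
  have h1 : φ.comp ψ = AlgHom.id B (B ⊗[ℤ] ↥(intDP (Fin n))) := by
    apply AlgHom.toLinearMap_injective
    refine b0.ext fun e => ?_
    show φ (ψ (b0 e)) = b0 e
    rw [hψb, map_finsuppProd, hb, bMon]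
    refine Finsupp.prod_congr fun l _ => ?_
    refine (hφdp.map_dpow (hX l)).trans ?_
    show δ0.dpow _ (φ (X l)) = _
    rw [hφX, hδ0' _ _ (hx1 l), hγ]
  have h2 : ψ.comp φ = AlgHom.id B P := by
    refine (huniv P JP δP hmor X hX).unique ⟨fun i => ?_, ?_⟩ ⟨fun i => rfl, ?_⟩
    · show ψ (φ (X i)) = X i
      rw [hφX, hψX]
    · exact hψdp'.comp δP hφdp
    · exact (DividedPowers.DPMorphism.id δP).isDPMorphism
  refine ⟨b0.map (AlgEquiv.ofAlgHom ψ φ h2 h1).toLinearEquiv, fun e => ?_⟩
  rw [Module.Basis.map_apply]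
  exact hψb e

end Groth.Agent.H27DPForms
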