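import Groth.Agent.H27DPForms.SqZero

/-!
# Divided power differentials of a divided power polynomial algebra

If `P` is `B⟨X_1, …, X_n⟩` and `(M, dd)`, `(MB, ee)` are the universal divided power derivations of
`P` and `B` over `R`, then `M` is the base change to `P` of `MB × B^n`.
-/

set_option autoImplicit false
set_option linter.unusedSectionVars false
universe u v

open TensorProduct

noncomputable section

namespace Groth.Agent.H27DPForms

variable {R : Type v} [CommRing R] {B : Type u} [CommRing B] [Algebra R B] {J : Ideal B} {δ : DividedPowers J}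
  {n : ℕ} {P : Type u} [CommRing P] [Algebra B P] [Algebra R P] [IsScalarTower R B P]
  {JP : Ideal P} {δP : DividedPowers JP} {X : Fin n → P}
  {MB : Type u} [AddCommGroup MB] [Module B MB] [Module R MB] [IsScalarTower R B MB]
  {M : Type u} [AddCommGroup M] [Module P M] [Module R M] [IsScalarTower R P M]
  [Module B M] [IsScalarTower B P M]

theorem map_prod_derivation {ι : Type} [DecidableEq ι] (dd : Derivation R P M) (s : Finset ι) (f : ι → P) :
    dd (∏ l ∈ s, f l) = ∑ l ∈ s, (∏ j ∈ s.erase l, f j) • dd (f l) := by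
  induction s using Finset.induction with
  | empty => simp
  | insert a s ha ih =>
    rw [Finset.prod_insert ha, Derivation.leibniz, ih, Finset.sum_insert ha, Finset.erase_insert ha,
      Finset.smul_sum, add_comm]
    congr 1
    refine Finset.sum_congr rfl fun l hl => ?_
    rw [smul_smul, Finset.erase_insert_of_ne (fun h : a = l => ha (h ▸ hl)), Finset.prod_insert]
    simp [ha]

/-- The universal derivation of a divided power polynomial algebra, as a splitting. -/
theorem exists_derivation (hX : ∀ i, X i ∈ JP) (hmor : δ.IsDPMorphism δP (algebraMap B P))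
    (huniv : ∀ (C : Type u) [CommRing C] [Algebra B C] (K : Ideal C) (ε : DividedPowers K),
      δ.IsDPMorphism ε (algebraMap B C) → ∀ k : Fin n → C, (∀ i, k i ∈ K) →
        ∃! φ : P →ₐ[B] C, (∀ i, φ (X i) = k i) ∧ δP.IsDPMorphism ε φ.toRingHom)
    (ee : Derivation R B MB)
    (hrelB : ∀ x ∈ J, ∀ m : ℕ, ee (δ.dpow (m + 1) x) = δ.dpow m x • ee x) :
    ∃ D : Derivation R P (P ⊗[B] (MB × (Fin n → B))),
      (∀ x ∈ JP, ∀ m : ℕ, D (δP.dpow (m + 1) x) = δP.dpow m x • D x) ∧
      (∀ c, D (algebraMap B P c) = (1 : P) ⊗ₜ[B] ((ee c, 0) : MB × (Fin n → B))) ∧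
      ∀ l, D (X l) = (1 : P) ⊗ₜ[B] ((0, Pi.single l (1 : B)) : MB × (Fin n → B)) := by
  classical
  let N := P ⊗[B] (MB × (Fin n → B))
  haveI : IsCentralScalar P N := ⟨fun p m => by
    induction m using TensorProduct.induction_on with
    | zero => simp
    | tmul a w => rw [TensorProduct.smul_tmul', TensorProduct.smul_tmul', op_smul_eq_smul]
    | add a c ha hc => rw [smul_add, smul_add, ha, hc]⟩
  let t : MB →ₗ[B] N := (TensorProduct.mk B P (MB × (Fin n → B)) 1).comp (LinearMap.inl B MB (Fin n → B))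
  have ht : ∀ (a : B) (m : MB), t (a • m) = algebraMap B P a • t m := fun a m => by
    rw [map_smul, algebraMap_smul]
  let ψ0 : B →+* TrivSqZeroExt P N :=
    { toFun := fun c => TrivSqZeroExt.inl (algebraMap B P c) + TrivSqZeroExt.inr (t (ee c))
      map_one' := by
        refine TrivSqZeroExt.ext ?_ ?_ <;> simp
      map_zero' := by simp
      map_add' := fun a c => by
        refine TrivSqZeroExt.ext ?_ ?_
        · simp
        · simp; abel
      map_mul' := fun a c => by
        refine TrivSqZeroExt.ext ?_ ?_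
        · simp
        · simp [Derivation.leibniz, ht, add_comm] }
  letI algQ : Algebra B (TrivSqZeroExt P N) := ψ0.toAlgebra
  have hψ0 : ∀ c, algebraMap B (TrivSqZeroExt P N) c =
      TrivSqZeroExt.inl (algebraMap B P c) + TrivSqZeroExt.inr (t (ee c)) := fun c => rfl
  have hmorQ : δ.IsDPMorphism (sqDP (N := N) δP) (algebraMap B (TrivSqZeroExt P N)) := by
    refine ⟨Ideal.map_le_iff_le_comap.2 fun x hx => ?_, fun {m} x hx => ?_⟩
    · rw [Ideal.mem_comap, mem_sqIdeal, hψ0]
      simpa using hmor.1 (Ideal.mem_map_of_mem _ hx)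
    · have hx' : (algebraMap B (TrivSqZeroExt P N) x).fst ∈ JP := by
        rw [hψ0]; simpa using hmor.1 (Ideal.mem_map_of_mem _ hx)
      rw [sqDP_dpow]
      refine TrivSqZeroExt.ext ?_ ?_
      · rw [fst_sqDpow δP hx']; simp [hψ0, hmor.2 x hx]
      · rw [snd_sqDpow δP hx']
        cases m with
        | zero => simp [hψ0, δ.dpow_zero hx]
        | succ k => simp [hψ0, hrelB x hx k, ht, hmor.2 x hx]
  let k : Fin n → TrivSqZeroExt P N := fun l =>
    TrivSqZeroExt.inl (X l) + TrivSqZeroExt.inr ((1 : P) ⊗ₜ[B] ((0, Pi.single l (1 : B)) : MB × (Fin n → B)))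
  obtain ⟨φ, ⟨hφX, hφdp⟩, -⟩ := huniv (TrivSqZeroExt P N) (sqIdeal JP N) (sqDP δP) hmorQ k fun l => by
    rw [mem_sqIdeal]; simpa [k] using hX l
  let f : P →ₐ[B] P :=
    { (TrivSqZeroExt.fstHom P P N).toRingHom.comp φ.toRingHom with
      commutes' := fun c => by
        show (φ (algebraMap B P c)).fst = _
        rw [AlgHom.commutes, hψ0]; simp }
  have hf : f = AlgHom.id B P := by
    refine (huniv P JP δP hmor X hX).unique ⟨fun i => ?_, ?_⟩ ⟨fun i => rfl, ?_⟩
    · show (φ (X i)).fst = X i
      rw [hφX]; simp [k]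
    · refine ⟨Ideal.map_le_iff_le_comap.2 fun x hx => hφdp.1 (Ideal.mem_map_of_mem _ hx), fun {m} x hx => ?_⟩
      show δP.dpow m (φ x).fst = (φ (δP.dpow m x)).fst
      have h := hφdp.2 (n := m) x hx
      change (sqDP (N := N) δP).dpow m (φ x) = φ (δP.dpow m x) at h
      rw [← h, sqDP_dpow, fst_sqDpow δP]
      exact hφdp.1 (Ideal.mem_map_of_mem _ hx)
    · exact (DividedPowers.DPMorphism.id δP).isDPMorphism
  have hfst : ∀ p, (φ p).fst = p := fun p => DFunLike.congr_fun hf p
  have hmul : ∀ p q, (φ (p * q)).snd = p • (φ q).snd + q • (φ p).snd := fun p q => by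
    rw [map_mul, TrivSqZeroExt.snd_mul, hfst, hfst]
    exact congrArg (_ + ·) (op_smul_eq_smul q _)
  have halg : ∀ c, (φ (algebraMap B P c)).snd = t (ee c) := fun c => by
    rw [AlgHom.commutes, hψ0]; simp
  refine ⟨Derivation.mk' { toFun := fun p => (φ p).snd
                           map_add' := fun p q => by simp
                           map_smul' := fun r p => by
                             simp only [RingHom.id_apply]
                             rw [Algebra.smul_def, hmul, IsScalarTower.algebraMap_apply R B P r, halg,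
                               Derivation.map_algebraMap, map_zero, smul_zero, add_zero,
                               ← IsScalarTower.algebraMap_apply R B P r, algebraMap_smul] }
      (fun p q => hmul p q), fun x hx m => ?_, halg, fun l => ?_⟩
  · show (φ (δP.dpow (m + 1) x)).snd = δP.dpow m x • (φ x).snd
    have h := hφdp.2 (n := m + 1) x hx
    change (sqDP (N := N) δP).dpow (m + 1) (φ x) = φ (δP.dpow (m + 1) x) at h
    rw [← h, sqDP_dpow, snd_sqDpow δP (show (φ x).fst ∈ JP by rw [hfst]; exact hx), hfst]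
    simp
  · show (φ (X l)).snd = _
    rw [hφX]; simp [k]

/-- `M` is the base change of `MB × B^n`. -/
theorem exists_isBaseChange (hX : ∀ i, X i ∈ JP) (hmor : δ.IsDPMorphism δP (algebraMap B P))
    (huniv : ∀ (C : Type u) [CommRing C] [Algebra B C] (K : Ideal C) (ε : DividedPowers K),
      δ.IsDPMorphism ε (algebraMap B C) → ∀ k : Fin n → C, (∀ i, k i ∈ K) →
        ∃! φ : P →ₐ[B] C, (∀ i, φ (X i) = k i) ∧ δP.IsDPMorphism ε φ.toRingHom)
    (b : Module.Basis (Fin n →₀ ℕ) B P) (hb : ∀ e, b e = e.prod fun l k => δP.dpow k (X l))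
    (ee : Derivation R B MB) (hee : Submodule.span B (Set.range ee) = ⊤)
    (hrelB : ∀ x ∈ J, ∀ m : ℕ, ee (δ.dpow (m + 1) x) = δ.dpow m x • ee x)
    (dd : Derivation R P M) (hdd : Submodule.span P (Set.range dd) = ⊤)
    (hrel : ∀ x ∈ JP, ∀ m : ℕ, dd (δP.dpow (m + 1) x) = δP.dpow m x • dd x)
    (hM : ∀ (N : Type u) [AddCommGroup N] [Module P N] [Module R N] [IsScalarTower R P N]
      (D : Derivation R P N), (∀ x ∈ JP, ∀ m : ℕ, D (δP.dpow (m + 1) x) = δP.dpow m x • D x) →
        ∃ G : M →ₗ[P] N, ∀ p, G (dd p) = D p)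
    (jB : MB →ₗ[B] M) (hjB : ∀ c, jB (ee c) = dd (algebraMap B P c)) :
    ∃ j : (MB × (Fin n → B)) →ₗ[B] M, IsBaseChange P j ∧ (∀ c, j (ee c, 0) = dd (algebraMap B P c)) ∧
      ∀ l, j (0, Pi.single l (1 : B)) = dd (X l) := by
  classical
  let W := MB × (Fin n → B)
  let j : W →ₗ[B] M := jB.comp (LinearMap.fst B MB (Fin n → B)) +
    (Fintype.linearCombination B fun l => dd (X l)).comp (LinearMap.snd B MB (Fin n → B))
  have hj1 : ∀ c, j (ee c, 0) = dd (algebraMap B P c) := fun c => by
    show jB (ee c) + Fintype.linearCombination B (fun l => dd (X l)) (0 : Fin n → B) = _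
    rw [map_zero, add_zero, hjB]
  have hj2 : ∀ l, j (0, Pi.single l (1 : B)) = dd (X l) := fun l => by
    show jB (0 : MB) + Fintype.linearCombination B (fun l => dd (X l)) (Pi.single l (1 : B)) = _
    rw [map_zero, zero_add, Fintype.linearCombination_apply_single, one_smul]
  refine ⟨j, ?_, hj1, hj2⟩
  obtain ⟨D, hD, hD1, hD2⟩ := exists_derivation hX hmor huniv ee hrelB
  obtain ⟨G, hG⟩ := hM (P ⊗[B] W) D hD
  let Φ : P ⊗[B] W →ₗ[P] M := j.liftBaseChange P
  have hΦ : ∀ (p : P) (w : W), Φ (p ⊗ₜ w) = p • j w := fun p w => LinearMap.liftBaseChange_tmul _ _ _ _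
  have hGj : ∀ w : W, G (j w) = (1 : P) ⊗ₜ[B] w := by
    have h : (G.restrictScalars B).comp j = TensorProduct.mk B P W 1 := by
      refine LinearMap.prod_ext (LinearMap.ext_on hee ?_) ((Pi.basisFun B (Fin n)).ext fun l => ?_)
      · rintro _ ⟨c, rfl⟩
        show G (j (ee c, 0)) = _
        rw [hj1, hG, hD1]; rfl
      · rw [Pi.basisFun_apply]
        show G (j (0, Pi.single l (1 : B))) = _
        rw [hj2, hG, hD2]; rfl
    exact fun w => LinearMap.congr_fun h w
  have hGΦ : G.comp Φ = LinearMap.id := by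
    apply TensorProduct.AlgebraTensorModule.curry_injective
    apply LinearMap.ext_ring
    refine LinearMap.ext fun w => ?_
    show G (Φ ((1 : P) ⊗ₜ w)) = (1 : P) ⊗ₜ w
    rw [hΦ, one_smul, hGj]
  have hrange : ∀ p, dd p ∈ LinearMap.range Φ := by
    let T : Subalgebra B P :=
      { carrier := {p | dd p ∈ LinearMap.range Φ}
        mul_mem' := fun {a c} ha hc => by
          show dd (a * c) ∈ LinearMap.range Φ
          rw [Derivation.leibniz]
          exact add_mem (Submodule.smul_mem _ _ hc) (Submodule.smul_mem _ _ ha)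
        add_mem' := fun {a c} ha hc => by
          show dd (a + c) ∈ LinearMap.range Φ
          rw [map_add]; exact add_mem ha hc
        algebraMap_mem' := fun c => ⟨(1 : P) ⊗ₜ[B] ((ee c, 0) : W), by rw [hΦ, one_smul, hj1]⟩ }
    have hTb : ∀ e, b e ∈ T := fun e => by
      rw [hb]
      refine Subalgebra.prod_mem _ fun l _ => ?_
      rcases hk : e l with - | k
      · show dd (δP.dpow 0 (X l)) ∈ LinearMap.range Φ
        rw [δP.dpow_zero (hX l), Derivation.map_one_eq_zero]; exact zero_mem _
      · show dd (δP.dpow (k + 1) (X l)) ∈ LinearMap.range Φ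
        rw [hrel _ (hX l)]
        exact Submodule.smul_mem _ _ ⟨(1 : P) ⊗ₜ[B] ((0, Pi.single l (1 : B)) : W), by rw [hΦ, one_smul, hj2]⟩
    intro p
    show p ∈ T
    rw [← b.linearCombination_repr p, Finsupp.linearCombination_apply]
    exact Subalgebra.sum_mem _ fun e _ => T.smul_mem (hTb e) _
  have hsurj : Function.Surjective Φ := by
    rw [← LinearMap.range_eq_top, eq_top_iff, ← hdd, Submodule.span_le]
    rintro _ ⟨p, rfl⟩
    exact hrange p
  refine IsBaseChange.of_equiv (LinearEquiv.ofBijective Φ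
    ⟨Function.LeftInverse.injective (g := G) fun x => LinearMap.congr_fun hGΦ x, hsurj⟩) fun w => ?_
  show Φ ((1 : P) ⊗ₜ w) = j w
  rw [hΦ, one_smul]

end Groth.Agent.H27DPForms
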