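import Groth.Agent.H27DR.Euler
import Groth.Agent.H27DR.ExtBaseChange

/-!
# The homotopy contracting a divided power variable

The de Rham complex of forms `⊕_e X^[e] ⋀ (MB × B^n)`: the operator "integrate in `X_ν`" is a homotopy
between the identity and the projection onto forms without `X_ν` and `dX_ν`.
-/

set_option autoImplicit false
set_option linter.unusedSectionVars false
universe u v

open exteriorPower

noncomputable section

namespace Groth.Agent.H27DPForms

open Groth.Agent.H27DR

section Extra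

variable {R : Type v} {A M : Type u} [CommRing R] [CommRing A] [Algebra R A]
  [AddCommGroup M] [Module A M] [Module R M] [IsScalarTower R A M]

theorem lwedge_add_left (p : ℕ) (w w' : M) (x : ↥(⋀[A]^p M)) :
    lwedge p (w + w') x = lwedge p w x + lwedge p w' x :=
  Subtype.ext (by simp [coe_lwedge, map_add, add_mul])

theorem lwedge_smul_left (p : ℕ) (a : A) (w : M) (x : ↥(⋀[A]^p M)) :
    lwedge p (a • w) x = a • lwedge p w x :=
  Subtype.ext (by simp [coe_lwedge, map_smul, smul_mul_assoc])

theorem lwedge_zero_left (p : ℕ) (x : ↥(⋀[A]^p M)) : lwedge p (0 : M) x = 0 :=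
  Subtype.ext (by simp [coe_lwedge])

theorem lwedge_sum_left {ι : Type} (p : ℕ) (s : Finset ι) (w : ι → M) (x : ↥(⋀[A]^p M)) :
    lwedge p (∑ l ∈ s, w l) x = ∑ l ∈ s, lwedge p (w l) x := by
  classical
  induction s using Finset.induction with
  | empty => simp [lwedge_zero_left]
  | insert a s ha ih => rw [Finset.sum_insert ha, Finset.sum_insert ha, lwedge_add_left, ih]

theorem contract_eq_zero (φ : M →ₗ[A] A) : ∀ (p : ℕ) (v : Fin (p + 1) → M), (∀ i, φ (v i) = 0) →
    contract φ p (ιMulti A (p + 1) v) = 0 := by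
  intro p
  induction p with
  | zero =>
    intro v hv
    rw [← Fin.cons_self_tail v, contract_cons_zero, hv, zero_smul]
  | succ p ih =>
    intro v hv
    rw [← Fin.cons_self_tail v, ← lwedge_ιMulti, contract_lwedge, hv, zero_smul, ih (Fin.tail v) fun i => hv _,
      map_zero, sub_zero]

theorem d_contract_closed (δ : Derivation R A M) (hgen : Submodule.span A (Set.range δ) = ⊤)
    (d : ∀ p : ℕ, ↥(⋀[A]^p M) →ₗ[R] ↥(⋀[A]^(p + 1) M)) (hd : DeRham.IsRule δ d) (φ : M →ₗ[A] A) :
    ∀ (p : ℕ) (b : Fin (p + 1) → A), (∀ i, δ (φ (δ (b i))) = 0) →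
      d p (contract φ p (ιMulti A (p + 1) fun i => δ (b i))) = 0 := by
  intro p
  induction p with
  | zero =>
    intro b hb
    rw [show (fun i => δ (b i)) = Fin.cons (δ (b 0)) (fun i => δ (Fin.tail b i)) by
        ext i; refine Fin.cases ?_ ?_ i <;> simp [Fin.tail],
      contract_cons_zero, d_smul δ d hgen hd, d_gen_zero δ d hd, smul_zero, add_zero, hb, lwedge_zero_left]
  | succ p ih =>
    intro b hb
    rw [show (fun i => δ (b i)) = Fin.cons (δ (b 0)) (fun i => δ (Fin.tail b i)) by
        ext i; refine Fin.cases ?_ ?_ i <;> simp [Fin.tail]]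
    rw [← lwedge_ιMulti, contract_lwedge, map_sub, d_smul δ d hgen hd, d_lwedge δ d hgen hd,
      d_gen_zero δ d hd, smul_zero, add_zero, hb, lwedge_zero_left, ih (Fin.tail b) (fun i => hb _), map_zero]
    simp

end Extra

variable {R : Type v} [CommRing R] {B : Type u} [CommRing B] [Algebra R B]
  {n : ℕ} {P : Type u} [CommRing P] [Algebra B P] [Algebra R P] [IsScalarTower R B P]
  {X : Fin n → P}
  {MB : Type u} [AddCommGroup MB] [Module B MB] [Module R MB] [IsScalarTower R B MB]
  {M : Type u} [AddCommGroup M] [Module P M] [Module R M] [IsScalarTower R P M]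
  [Module B M] [IsScalarTower B P M]

/-- The exact one-forms generating `M`: `d c` for `c ∈ B` and `d X_l`. -/
def sig (X : Fin n → P) : B ⊕ Fin n → P := Sum.elim (algebraMap B P) X

open Classical in
/-- Lowering an exponent. -/
def lower (b : Module.Basis (Fin n →₀ ℕ) B P) (e : Fin n →₀ ℕ) (l : Fin n) : P :=
  if e l = 0 then 0 else b (e - Finsupp.single l 1)

/-- The generators `c X^[e] ⋀ d(s_j)`. -/
def gen2 (X : Fin n → P) (b : Module.Basis (Fin n →₀ ℕ) B P) (dd : Derivation R P M) {i : ℕ} (c : B)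
    (e : Fin n →₀ ℕ) (s : Fin i → B ⊕ Fin n) : ↥(⋀[P]^i M) :=
  DeRham.gen dd i (algebraMap B P c * b e) fun t => sig X (s t)

/-- The forms of `MB × B^n`. -/
def wsig (ee : Derivation R B MB) : B ⊕ Fin n → MB × (Fin n → B) :=
  Sum.elim (fun c => (ee c, 0)) fun l => (0, Pi.single l (1 : B))

theorem span_wsig (ee : Derivation R B MB) (hee : Submodule.span B (Set.range ee) = ⊤) :
    Submodule.span B (Set.range (wsig (n := n) ee)) = ⊤ := by
  classical
  rw [eq_top_iff]
  rintro ⟨m, v⟩ -
  have h1 : ((m, 0) : MB × (Fin n → B)) ∈ Submodule.span B (Set.range (wsig (n := n) ee)) := by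
    have hle : Submodule.span B (Set.range ee) ≤ (Submodule.span B (Set.range (wsig (n := n) ee))).comap
        (LinearMap.inl B MB (Fin n → B)) := Submodule.span_le.2 <| by
      rintro _ ⟨c, rfl⟩; exact Submodule.subset_span ⟨Sum.inl c, rfl⟩
    exact hle (by rw [hee]; trivial)
  have h2 : ((0, v) : MB × (Fin n → B)) ∈ Submodule.span B (Set.range (wsig (n := n) ee)) := by
    have hle : Submodule.span B (Set.range (Pi.basisFun B (Fin n))) ≤
        (Submodule.span B (Set.range (wsig (n := n) ee))).comap (LinearMap.inr B MB (Fin n → B)) :=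
      Submodule.span_le.2 <| by
        rintro _ ⟨l, rfl⟩
        rw [Pi.basisFun_apply]
        exact Submodule.subset_span ⟨Sum.inr l, rfl⟩
    exact hle (by rw [Module.Basis.span_eq]; trivial)
  simpa using add_mem h1 h2

/-- `⋀ⁱ` of `j`. -/
def extj (j : (MB × (Fin n → B)) →ₗ[B] M) (i : ℕ) :
    ↥(⋀[B]^i (MB × (Fin n → B))) →ₗ[B] ↥(⋀[P]^i M) :=
  exteriorPower.alternatingMapLinearEquiv
    { toFun := fun m => ιMulti P i fun t => j (m t)
      map_update_add' := fun m t x y => by
        classical
        have h : ∀ z, (fun k => j (Function.update m t z k)) = Function.update (fun k => j (m k)) t (j z) :=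
          fun z => by ext k; by_cases hk : k = t <;> simp [hk]
        simp only [h, map_add]
        exact (ιMulti P i).map_update_add _ _ _ _
      map_update_smul' := fun m t c x => by
        classical
        have h : ∀ z, (fun k => j (Function.update m t z k)) = Function.update (fun k => j (m k)) t (j z) :=
          fun z => by ext k; by_cases hk : k = t <;> simp [hk]
        simp only [h, map_smul]
        rw [← IsScalarTower.algebraMap_smul P c, (ιMulti P i).map_update_smul, IsScalarTower.algebraMap_smul]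
      map_eq_zero_of_eq' := fun m t t' h ht =>
        (ιMulti P i).map_eq_zero_of_eq _ (by simp [h]) ht }

theorem extj_ιMulti (j : (MB × (Fin n → B)) →ₗ[B] M) (i : ℕ) (m : Fin i → MB × (Fin n → B)) :
    extj j i (ιMulti B i m) = ιMulti P i fun t => j (m t) := by
  simp [extj]

variable (b : Module.Basis (Fin n →₀ ℕ) B P) (ee : Derivation R B MB) (dd : Derivation R P M)
  (j : (MB × (Fin n → B)) →ₗ[B] M)

theorem j_wsig (hj1 : ∀ c, j (ee c, 0) = dd (algebraMap B P c))
    (hj2 : ∀ l, j (0, Pi.single l (1 : B)) = dd (X l)) (s : B ⊕ Fin n) : j (wsig ee s) = dd (sig X s) := by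
  cases s with
  | inl c => exact hj1 c
  | inr l => exact hj2 l

theorem span_sig (hee : Submodule.span B (Set.range ee) = ⊤) (hj : IsBaseChange P j)
    (hjw : ∀ s, j (wsig ee s) = dd (sig X s)) :
    Submodule.span P (Set.range fun s : B ⊕ Fin n => dd (sig X s)) = ⊤ := by
  have hle : Submodule.span B (Set.range (wsig (n := n) ee)) ≤
      ((Submodule.span P (Set.range fun s : B ⊕ Fin n => dd (sig X s))).restrictScalars B).comap j :=
    Submodule.span_le.2 <| by
      rintro _ ⟨s, rfl⟩
      show j (wsig ee s) ∈ Submodule.span P (Set.range fun s : B ⊕ Fin n => dd (sig X s))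
      rw [hjw]; exact Submodule.subset_span ⟨s, rfl⟩
  rw [eq_top_iff]
  rintro m -
  induction m using hj.inductionOn with
  | zero => exact zero_mem _
  | tmul w => exact hle (by rw [span_wsig ee hee]; trivial)
  | smul p x hx => exact Submodule.smul_mem _ p hx
  | add x y hx hy => exact add_mem hx hy

/-- The generators generate additively. -/
theorem gen2_induction (hsig : Submodule.span P (Set.range fun s : B ⊕ Fin n => dd (sig X s)) = ⊤) {i : ℕ}
    {Q : ↥(⋀[P]^i M) → Prop} (hgen : ∀ c e s, Q (gen2 X b dd c e s)) (hzero : Q 0)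
    (hadd : ∀ x y, Q x → Q y → Q (x + y)) (x : ↥(⋀[P]^i M)) : Q x := by
  classical
  have hx : x ∈ Submodule.span P
      (Set.range fun s : Fin i → B ⊕ Fin n => ιMulti P i fun t => dd (sig X (s t))) := by
    have htop : x ∈ (⊤ : Submodule P ↥(⋀[P]^i M)) := trivial
    rw [← exteriorPower.ιMulti_span_of_span P i M hsig] at htop
    refine Submodule.span_mono ?_ htop
    rintro _ ⟨a, ha, rfl⟩
    have : ∀ t, ∃ s, dd (sig X s) = a t := fun t => ha ⟨t, rfl⟩
    choose s hs using this
    exact ⟨s, by simp [hs]⟩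
  suffices ∀ q : P, Q (q • x) by simpa using this 1
  induction hx using Submodule.span_induction with
  | mem y hy =>
    obtain ⟨s, rfl⟩ := hy
    intro q
    rw [← b.linearCombination_repr q, Finsupp.linearCombination_apply, Finsupp.sum, Finset.sum_smul]
    refine Finset.sum_induction _ Q hadd hzero fun e _ => ?_
    rw [Algebra.smul_def]
    exact hgen _ _ _
  | zero => intro q; rw [smul_zero]; exact hzero
  | add y z _ _ hy hz => intro q; rw [smul_add]; exact hadd _ _ (hy q) (hz q)
  | smul a y _ hy => intro q; rw [smul_smul]; exact hy _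

/-- An operator on coefficients extends to forms. -/
theorem exists_coeffMap (hj : IsBaseChange P j) (hjw : ∀ s, j (wsig ee s) = dd (sig X s)) (T : P →ₗ[B] P)
    (i : ℕ) : ∃ L : ↥(⋀[P]^i M) →ₗ[B] ↥(⋀[P]^i M), ∀ (q : P) (s : Fin i → B ⊕ Fin n),
      L (q • ιMulti P i fun t => dd (sig X (s t))) = T q • ιMulti P i fun t => dd (sig X (s t)) := by
  have hF := Groth.Agent.H27DR.isBaseChange_exteriorPower hj (extj j i) (extj_ιMulti j i)
  let E := hF.equiv.restrictScalars B
  refine ⟨E.toLinearMap ∘ₗ (T.rTensor _) ∘ₗ E.symm.toLinearMap, fun q s => ?_⟩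
  have h : ∀ q' : P, (q' • ιMulti P i fun t => dd (sig X (s t))) =
      E (q' ⊗ₜ[B] ιMulti B i fun t => wsig ee (s t)) := fun q' => by
    show _ = hF.equiv _
    rw [IsBaseChange.equiv_tmul, extj_ιMulti]
    simp only [hjw]
  rw [h q, h (T q), LinearMap.comp_apply, LinearMap.comp_apply, LinearEquiv.coe_coe, LinearEquiv.coe_coe,
    LinearEquiv.symm_apply_apply, LinearMap.rTensor_tmul]

variable (X) in
/-- The condition cutting out forms without `X_ν` and `dX_ν`. -/
def Free (ν : Fin n) {i : ℕ} (e : Fin n →₀ ℕ) (s : Fin i → B ⊕ Fin n) : Prop :=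
  e ν = 0 ∧ ∀ t, s t ≠ Sum.inr ν

open Classical in
/-- **The homotopy.** -/
theorem exists_homotopy (hdgen : Submodule.span P (Set.range dd) = ⊤) (hj : IsBaseChange P j)
    (hjw : ∀ s, j (wsig ee s) = dd (sig X s))
    (hlow : ∀ e, dd (b e) = ∑ l, lower b e l • dd (X l))
    (d : ∀ p : ℕ, ↥(⋀[P]^p M) →ₗ[R] ↥(⋀[P]^(p + 1) M)) (hd : DeRham.IsRule dd d) (ν : Fin n) :
    ∃ K : ∀ i : ℕ, ↥(⋀[P]^(i + 1) M) →ₗ[B] ↥(⋀[P]^i M),
      (∀ c e (s : Fin 0 → B ⊕ Fin n), gen2 X b dd c e s - K 0 (d 0 (gen2 X b dd c e s)) =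
        if e ν = 0 ∧ ∀ t, s t ≠ Sum.inr ν then gen2 X b dd c e s else 0) ∧
      ∀ i c e (s : Fin (i + 1) → B ⊕ Fin n),
        gen2 X b dd c e s - d i (K i (gen2 X b dd c e s)) - K (i + 1) (d (i + 1) (gen2 X b dd c e s)) =
          if e ν = 0 ∧ ∀ t, s t ≠ Sum.inr ν then gen2 X b dd c e s else 0 := by
  let φ : M →ₗ[P] P := hj.lift
    ((Algebra.linearMap B P) ∘ₗ (LinearMap.proj ν) ∘ₗ LinearMap.snd B MB (Fin n → B))
  have hφw : ∀ w, φ (j w) = algebraMap B P (w.2 ν) := fun w => hj.lift_eq _ w
  have hφc : ∀ c, φ (dd (algebraMap B P c)) = 0 := fun c => by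
    have := hφw (wsig ee (Sum.inl c))
    rw [hjw] at this
    simpa [wsig, sig] using this
  have hφX : ∀ l, φ (dd (X l)) = if l = ν then 1 else 0 := fun l => by
    have := hφw (wsig ee (Sum.inr l))
    rw [hjw] at this
    rw [show sig X (Sum.inr l : B ⊕ Fin n) = X l from rfl] at this
    rw [this]
    show algebraMap B P ((Pi.single l (1 : B) : Fin n → B) ν) = _
    by_cases h : l = ν
    · subst h; simp
    · simp [h, Pi.single_eq_of_ne (Ne.symm h)]
  have hφd : ∀ s : B ⊕ Fin n, dd (φ (dd (sig X s))) = 0 := fun s => by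
    cases s with
    | inl c => show dd (φ (dd (algebraMap B P c))) = 0; rw [hφc, map_zero]
    | inr l => show dd (φ (dd (X l))) = 0; rw [hφX]; split_ifs <;> simp
  let I : P →ₗ[B] P := b.constr ℕ fun e => b (e + Finsupp.single ν 1)
  have hI : ∀ e, I (b e) = b (e + Finsupp.single ν 1) := fun e => b.constr_basis _ _ _
  choose L hL using fun i => exists_coeffMap ee dd j hj hjw I i
  let K : ∀ i : ℕ, ↥(⋀[P]^(i + 1) M) →ₗ[B] ↥(⋀[P]^i M) := fun i =>
    (contract φ i).restrictScalars B ∘ₗ L (i + 1)
  have hK : ∀ i q (s : Fin (i + 1) → B ⊕ Fin n), K i (q • ιMulti P (i + 1) fun t => dd (sig X (s t))) =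
      I q • contract φ i (ιMulti P (i + 1) fun t => dd (sig X (s t))) := fun i q s => by
    show contract φ i (L (i + 1) _) = _
    rw [hL, map_smul]
  have hKw : ∀ i q (u : B ⊕ Fin n) (s : Fin i → B ⊕ Fin n),
      K i (lwedge i (q • dd (sig X u)) (ιMulti P i fun t => dd (sig X (s t)))) =
        I q • contract φ i (lwedge i (dd (sig X u)) (ιMulti P i fun t => dd (sig X (s t)))) := by
    intro i q u s
    have h : lwedge i (dd (sig X u)) (ιMulti P i fun t => dd (sig X (s t))) =
        ιMulti P (i + 1) fun t => dd (sig X ((Fin.cons u s : Fin (i + 1) → B ⊕ Fin n) t)) := by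
      rw [lwedge_ιMulti]
      congr 1
      ext t; refine Fin.cases ?_ ?_ t <;> simp
    rw [lwedge_smul_left, h, hK]
  have hdp : ∀ c e, dd (algebraMap B P c * b e) =
      b e • dd (algebraMap B P c) + ∑ l, (c • lower b e l) • dd (X l) := fun c e => by
    rw [Derivation.leibniz, hlow, Finset.smul_sum, add_comm]
    congr 1
    exact Finset.sum_congr rfl fun l _ => by rw [smul_smul, Algebra.smul_def]
  have hIlow : ∀ (c : B) e l, I (c • lower b e l) =
      if l = ν then (if e ν = 0 then 0 else c • b e) else c • lower b (e + Finsupp.single ν 1) l := by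
    intro c e l
    rw [map_smul]
    by_cases hl : l = ν
    · subst hl
      rw [if_pos rfl, lower]
      split_ifs with h
      · simp
      · rw [hI, tsub_add_cancel_of_le]
        exact Finsupp.single_le_iff.2 (Nat.one_le_iff_ne_zero.2 h)
    · rw [if_neg hl, lower, lower, Finsupp.add_apply, Finsupp.single_eq_of_ne hl, add_zero]
      split_ifs with h
      · simp
      · rw [hI, tsub_add_eq_add_tsub]
        exact Finsupp.single_le_iff.2 (Nat.one_le_iff_ne_zero.2 h)
  have hKd : ∀ i c e (s : Fin i → B ⊕ Fin n), K i (d i (gen2 X b dd c e s)) =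
      I (b e) • contract φ i (lwedge i (dd (algebraMap B P c)) (ιMulti P i fun t => dd (sig X (s t)))) +
        ∑ l, I (c • lower b e l) •
          contract φ i (lwedge i (dd (X l)) (ιMulti P i fun t => dd (sig X (s t)))) := by
    intro i c e s
    rw [gen2, hd, ← lwedge_ιMulti, hdp, lwedge_add_left, lwedge_sum_left, map_add, map_sum]
    congr 1
    · exact hKw i (b e) (Sum.inl c) s
    · exact Finset.sum_congr rfl fun l _ => hKw i _ (Sum.inr l) s
  refine ⟨K, fun c e s => ?_, fun i c e s => ?_⟩
  · rw [hKd, lwedge_ιMulti, contract_cons_zero, hφc, zero_smul, smul_zero, zero_add,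
      Finset.sum_eq_single ν]
    · rw [lwedge_ιMulti, contract_cons_zero, hφX, if_pos rfl, one_smul, hIlow, if_pos rfl]
      have hs : ∀ t, s t ≠ Sum.inr ν := fun t => t.elim0
      by_cases h : e ν = 0
      · rw [if_pos h, zero_smul, sub_zero, if_pos ⟨h, hs⟩]
      · rw [if_neg h, if_neg (fun h' => h h'.1), gen2, DeRham.gen, Algebra.smul_def, sub_self]
    · intro l _ hl
      rw [lwedge_ιMulti, contract_cons_zero, hφX, if_neg hl, zero_smul, smul_zero]
    · simp
  · set wv := ιMulti P (i + 1) fun t => dd (sig X (s t)) with hwv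
    set cw := contract φ i wv with hcw
    have hcl : d i cw = 0 := d_contract_closed dd hdgen d hd φ i (fun t => sig X (s t)) fun t => hφd _
    have hdK : d i (K i (gen2 X b dd c e s)) = b (e + Finsupp.single ν 1) • lwedge i (dd (algebraMap B P c)) cw +
        ∑ l, (c • lower b (e + Finsupp.single ν 1) l) • lwedge i (dd (X l)) cw := by
      rw [gen2, DeRham.gen, hK, ← hwv, ← hcw, ← Algebra.smul_def c (b e), I.map_smul, hI, Algebra.smul_def,
        d_smul dd d hdgen hd, hcl, smul_zero, add_zero, hdp, lwedge_add_left, lwedge_sum_left, lwedge_smul_left]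
      congr 1
      exact Finset.sum_congr rfl fun l _ => lwedge_smul_left _ _ _ _
    rw [hKd, hdK, ← hwv]
    simp only [contract_lwedge, ← hcw, hφc, hφX, zero_smul, zero_sub, smul_neg, hI]
    have hsum : (∑ l, (c • lower b (e + Finsupp.single ν 1) l) • lwedge i (dd (X l)) cw) +
        ∑ l, I (c • lower b e l) • ((if l = ν then (1 : P) else 0) • wv - lwedge i (dd (X l)) cw) =
        (c • b e) • lwedge i (dd (X ν)) cw +
          (if e ν = 0 then 0 else c • b e) • (wv - lwedge i (dd (X ν)) cw) := by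
      rw [← Finset.sum_add_distrib, Finset.sum_eq_single ν]
      · rw [hIlow, if_pos rfl, if_pos rfl, one_smul, lower, Finsupp.add_apply, Finsupp.single_eq_same,
          if_neg (Nat.succ_ne_zero _), add_tsub_cancel_right]
      · intro l _ hl
        rw [hIlow, if_neg hl, if_neg hl, zero_smul, zero_sub, smul_neg, add_neg_cancel]
      · simp
    have hp : gen2 X b dd c e s = (c • b e) • wv := by rw [gen2, DeRham.gen, Algebra.smul_def, hwv]
    have hkey : (∀ t, s t ≠ Sum.inr ν) → cw = 0 := fun hs => contract_eq_zero φ i _ fun t => by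
      cases hst : s t with
      | inl c' => exact hφc c'
      | inr l => exact (hφX l).trans (if_neg fun h => hs t (by rw [hst, h]))
    have hkey' : ¬ (∀ t, s t ≠ Sum.inr ν) → wv - lwedge i (dd (X ν)) cw = 0 := fun hs => by
      push Not at hs
      obtain ⟨t, ht⟩ := hs
      have h0 : lwedge (i + 1) (dd (X ν)) wv = 0 := by
        rw [hwv, lwedge_ιMulti]
        refine (ιMulti P (i + 1 + 1)).map_eq_zero_of_eq _ (i := 0) (j := t.succ) ?_ (Fin.succ_ne_zero t).symm
        simp [ht, sig]
      have h1 := contract_lwedge φ i (dd (X ν)) wv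
      rw [h0, map_zero, hφX, if_pos rfl, one_smul] at h1
      exact h1.symm
    rw [show ∀ (g A1 S1 S2 : ↥(⋀[P]^(i + 1) M)), g - (A1 + S1) - (-A1 + S2) = g - (S1 + S2) from
      fun g A1 S1 S2 => by abel, hsum, hp]
    by_cases h : e ν = 0
    · rw [if_pos h, zero_smul, add_zero]
      by_cases hs : ∀ t, s t ≠ Sum.inr ν
      · rw [if_pos ⟨h, hs⟩, hkey hs, map_zero, smul_zero, sub_zero]
      · rw [if_neg (fun h' => hs h'.2)]
        refine ((smul_sub _ _ _).symm.trans ?_)
        rw [hkey' hs, smul_zero]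
    · rw [if_neg h, if_neg (fun h' => h h'.1), ← smul_add]
      simp

end Groth.Agent.H27DPForms
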