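import Groth.Agent.H27DPForms.DPModel
import Groth.Agent.H27DPForms.Differentials
import Groth.Agent.H27DPForms.Homotopy

/-!
# The divided power Poincaré lemma

The retraction `B⟨X_1, …, X_n⟩ → B` induces an isomorphism on the cohomology of the divided power de
Rham complexes.
-/

set_option autoImplicit false
set_option linter.unusedSectionVars false
universe u v

open exteriorPower

noncomputable section

namespace Groth.Agent.H27DPForms

open Groth.Agent.H27DR

variable {R : Type v} [CommRing R] {B : Type u} [CommRing B] [Algebra R B] {J : Ideal B} {δ : DividedPowers J}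
  {n : ℕ} {P : Type u} [CommRing P] [Algebra B P] [Algebra R P] [IsScalarTower R B P]
  {JP : Ideal P} {δP : DividedPowers JP} {X : Fin n → P}
  {MB : Type u} [AddCommGroup MB] [Module B MB] [Module R MB] [IsScalarTower R B MB]
  {M : Type u} [AddCommGroup M] [Module P M] [Module R M] [IsScalarTower R P M]
  [Module B M] [IsScalarTower B P M]

/-- The derivative of a monomial. -/
theorem dd_basis (hX : ∀ i, X i ∈ JP) (dd : Derivation R P M)
    (hrel : ∀ x ∈ JP, ∀ m : ℕ, dd (δP.dpow (m + 1) x) = δP.dpow m x • dd x)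
    (b : Module.Basis (Fin n →₀ ℕ) B P) (hb : ∀ e, b e = e.prod fun l k => δP.dpow k (X l))
    (e : Fin n →₀ ℕ) : dd (b e) = ∑ l, lower b e l • dd (X l) := by
  classical
  have hb' : ∀ e, b e = ∏ l, δP.dpow (e l) (X l) := fun e => by
    rw [hb]; exact Finsupp.prod_fintype e (fun l k => δP.dpow k (X l)) fun l => δP.dpow_zero (hX l)
  rw [hb', map_prod_derivation]
  refine Finset.sum_congr rfl fun l _ => ?_
  rcases hk : e l with - | k
  · rw [δP.dpow_zero (hX l), Derivation.map_one_eq_zero, smul_zero, lower, if_pos hk, zero_smul]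
  · rw [hrel _ (hX l), smul_smul, lower, if_neg (by omega)]
    congr 1
    rw [hb', ← Finset.mul_prod_erase Finset.univ _ (Finset.mem_univ l), mul_comm]
    congr 1
    · simp [hk]
    · exact Finset.prod_congr rfl fun t ht => by simp [Finsupp.single_eq_of_ne (Finset.ne_of_mem_erase ht)]

/-- **The Poincaré lemma.** -/
theorem quasiIso (hX : ∀ i, X i ∈ JP) (hmor : δ.IsDPMorphism δP (algebraMap B P))
    (huniv : ∀ (C : Type u) [CommRing C] [Algebra B C] (K : Ideal C) (ε : DividedPowers K),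
      δ.IsDPMorphism ε (algebraMap B C) → ∀ k : Fin n → C, (∀ i, k i ∈ K) →
        ∃! φ : P →ₐ[B] C, (∀ i, φ (X i) = k i) ∧ δP.IsDPMorphism ε φ.toRingHom)
    (z : P →ₐ[B] B) (hz : ∀ i, z (X i) = 0) (hzmor : δP.IsDPMorphism δ z.toRingHom)
    (ee : Derivation R B MB) (hee : Submodule.span B (Set.range ee) = ⊤)
    (hrelB : ∀ x ∈ J, ∀ m : ℕ, ee (δ.dpow (m + 1) x) = δ.dpow m x • ee x)
    (dd : Derivation R P M) (hdd : Submodule.span P (Set.range dd) = ⊤)
    (hrel : ∀ x ∈ JP, ∀ m : ℕ, dd (δP.dpow (m + 1) x) = δP.dpow m x • dd x)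
    (hM : ∀ (N : Type u) [AddCommGroup N] [Module P N] [Module R N] [IsScalarTower R P N]
      (D : Derivation R P N), (∀ x ∈ JP, ∀ m : ℕ, D (δP.dpow (m + 1) x) = δP.dpow m x • D x) →
        ∃ G : M →ₗ[P] N, ∀ p, G (dd p) = D p)
    (jB : MB →ₗ[B] M) (hjB : ∀ c, jB (ee c) = dd (algebraMap B P c))
    (dP : ∀ p : ℕ, ↥(⋀[P]^p M) →ₗ[R] ↥(⋀[P]^(p + 1) M)) (hdP : DeRham.IsDiff dd dP)
    (dB : ∀ p : ℕ, ↥(⋀[B]^p MB) →ₗ[R] ↥(⋀[B]^(p + 1) MB)) (hdB : DeRham.IsDiff ee dB)
    (ψ : ∀ p : ℕ, ↥(⋀[P]^p M) →+ ↥(⋀[B]^p MB)) (hψ : DeRham.IsCxMap dd ee z.toRingHom ψ) (i : ℕ) :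
    (∀ c ∈ DeRham.cocycles dB i, ∃ c' ∈ DeRham.cocycles dP i, ψ i c' - c ∈ DeRham.coboundaries dB i) ∧
      (∀ c' ∈ DeRham.cocycles dP i, ψ i c' ∈ DeRham.coboundaries dB i →
        c' ∈ DeRham.coboundaries dP i) := by
  classical
  obtain ⟨b, hb⟩ := exists_basis_of_universal δ n δP X hX hmor huniv
  obtain ⟨j, hj, hj1, hj2⟩ := exists_isBaseChange hX hmor huniv b hb ee hee hrelB dd hdd hrel hM jB hjB
  have hjw := j_wsig ee dd j hj1 hj2
  have hsig := span_sig ee dd j hee hj hjw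
  have hlow := dd_basis hX dd hrel b hb
  -- the section of `ψ`
  let ι : ∀ p : ℕ, ↥(⋀[B]^p MB) →+ ↥(⋀[P]^p M) := fun p =>
    ((extj j p).comp (exteriorPower.map p (LinearMap.inl B MB (Fin n → B)))).toAddMonoidHom
  have hι : DeRham.IsCxMap ee dd (algebraMap B P) ι := fun p b₀ a => by
    show extj j p (exteriorPower.map p (LinearMap.inl B MB (Fin n → B)) (DeRham.gen ee p b₀ a)) = _
    rw [DeRham.gen, map_smul, map_smul, exteriorPower.map_apply_ιMulti, extj_ιMulti, DeRham.gen,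
      algebraMap_smul]
    congr 2
    exact funext fun t => hj1 (a t)
  have hιd : ∀ p y, ι (p + 1) (dB p y) = dP p (ι p y) := fun p y =>
    cxMap_comm ee hee dd (algebraMap B P) dB hdB.1 dP hdP.1 ι hι p y
  have hψd : ∀ p y, ψ (p + 1) (dP p y) = dB p (ψ p y) := fun p y =>
    cxMap_comm dd hdd ee z.toRingHom dP hdP.1 dB hdB.1 ψ hψ p y
  have hψι : ∀ p y, ψ p (ι p y) = y := fun p y => by
    refine gen_induction ee hee p (P := fun y => ψ p (ι p y) = y) ?_ (by simp)
      (fun x y hx hy => by rw [map_add, map_add, hx, hy]) y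
    intro b₀ a
    rw [hι, hψ]
    congr 1
    · exact z.commutes b₀
    · exact funext fun t => z.commutes (a t)
  have hdd2 : ∀ p y, dP (p + 1) (dP p y) = 0 := fun p y => LinearMap.congr_fun (hdP.2 p) y
  -- the homotopies
  choose K hK0 hK using fun ν : Fin n => exists_homotopy b ee dd j hdd hj hjw hlow dP hdP.1 ν
  let π : Fin n → ∀ p : ℕ, ↥(⋀[P]^p M) →+ ↥(⋀[P]^p M) := fun ν p => match p with
    | 0 => AddMonoidHom.id _ - (K ν 0).toAddMonoidHom.comp (dP 0).toAddMonoidHom
    | q + 1 => AddMonoidHom.id _ - (dP q).toAddMonoidHom.comp (K ν q).toAddMonoidHom -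
        (K ν (q + 1)).toAddMonoidHom.comp (dP (q + 1)).toAddMonoidHom
  have hπ0 : ∀ ν x, π ν 0 x = x - K ν 0 (dP 0 x) := fun ν x => rfl
  have hπs : ∀ ν q x, π ν (q + 1) x = x - dP q (K ν q x) - K ν (q + 1) (dP (q + 1) x) := fun ν q x => rfl
  have hπgen : ∀ ν p c e (s : Fin p → B ⊕ Fin n), π ν p (gen2 X b dd c e s) =
      if e ν = 0 ∧ ∀ t, s t ≠ Sum.inr ν then gen2 X b dd c e s else 0 := by
    intro ν p
    cases p with
    | zero => intro c e s; rw [hπ0]; exact hK0 ν c e s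
    | succ q => intro c e s; rw [hπs]; exact hK ν q c e s
  -- iterated projection
  have hlist : ∀ l : List (Fin n), ∃ Q : ∀ p : ℕ, ↥(⋀[P]^p M) →+ ↥(⋀[P]^p M),
      (∀ p c e (s : Fin p → B ⊕ Fin n), Q p (gen2 X b dd c e s) =
        if ∀ ν ∈ l, e ν = 0 ∧ ∀ t, s t ≠ Sum.inr ν then gen2 X b dd c e s else 0) ∧
      ∀ p x, dP p x = 0 → x - Q p x ∈ DeRham.coboundaries dP p ∧ dP p (Q p x) = 0 := by
    intro l
    induction l with
    | nil =>
      exact ⟨fun p => AddMonoidHom.id _, fun p c e s => by simp,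
        fun p x hx => ⟨by simp, by simpa using hx⟩⟩
    | cons ν l ih =>
      obtain ⟨Q, hQ, hQc⟩ := ih
      refine ⟨fun p => (π ν p).comp (Q p), fun p c e s => ?_, fun p x hx => ?_⟩
      · rw [AddMonoidHom.comp_apply, hQ]
        by_cases h : ∀ μ ∈ l, e μ = 0 ∧ ∀ t, s t ≠ Sum.inr μ
        · rw [if_pos h, hπgen]
          by_cases h' : e ν = 0 ∧ ∀ t, s t ≠ Sum.inr ν
          · rw [if_pos h', if_pos (List.forall_mem_cons (p := fun μ => e μ = 0 ∧ ∀ t, s t ≠ Sum.inr μ).2 ⟨h', h⟩)]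
          · rw [if_neg h', if_neg fun hh => h' (List.forall_mem_cons (p := fun μ => e μ = 0 ∧ ∀ t, s t ≠ Sum.inr μ).1 hh).1]
        · rw [if_neg h, map_zero, if_neg fun hh => h (List.forall_mem_cons (p := fun μ => e μ = 0 ∧ ∀ t, s t ≠ Sum.inr μ).1 hh).2]
      · obtain ⟨h1, h2⟩ := hQc p x hx
        rw [AddMonoidHom.comp_apply]
        cases p with
        | zero =>
          rw [hπ0, h2, map_zero, sub_zero]
          exact ⟨h1, h2⟩
        | succ q =>
          rw [hπs, h2, map_zero, sub_zero]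
          refine ⟨?_, by rw [map_sub, hdd2, h2, sub_zero]⟩
          rw [show x - (Q (q + 1) x - dP q (K ν q (Q (q + 1) x))) =
            (x - Q (q + 1) x) + dP q (K ν q (Q (q + 1) x)) by abel]
          exact add_mem h1 ⟨_, rfl⟩
  obtain ⟨Q, hQ, hQc⟩ := hlist (Finset.univ : Finset (Fin n)).toList
  have hzb : ∀ e : Fin n →₀ ℕ, e ≠ 0 → z (b e) = 0 := fun e he => by
    obtain ⟨l, hl⟩ := Finsupp.support_nonempty_iff.2 he
    rw [hb, map_finsuppProd]
    refine Finset.prod_eq_zero hl ?_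
    show z (δP.dpow (e l) (X l)) = 0
    rw [show z (δP.dpow (e l) (X l)) = δ.dpow (e l) (z (X l)) from hzmor.map_dpow (hX l), hz]
    exact δ.dpow_eval_zero (Finsupp.mem_support_iff.1 hl)
  have hQψ : ∀ p x, Q p x = ι p (ψ p x) := fun p x => by
    refine gen2_induction b dd hsig (Q := fun x => Q p x = ι p (ψ p x)) ?_ (by simp)
      (fun x y hx hy => by rw [map_add, map_add, map_add, hx, hy]) x
    intro c e s
    rw [hQ, gen2, hψ]
    by_cases h : ∀ ν ∈ (Finset.univ : Finset (Fin n)).toList, e ν = 0 ∧ ∀ t, s t ≠ Sum.inr ν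
    · rw [if_pos h, hι]
      have he : e = 0 := Finsupp.ext fun ν => (h ν (by simp)).1
      have hb0 : b e = 1 := by rw [hb, he, Finsupp.prod_zero_index]
      congr 1
      · rw [hb0, mul_one]; exact congrArg (algebraMap B P) (z.commutes c).symm
      · funext t
        cases hst : s t with
        | inl c' => exact congrArg (algebraMap B P) (z.commutes c').symm
        | inr ν => exact absurd hst ((h ν (by simp)).2 t)
    · rw [if_neg h]
      symm
      suffices h0 : DeRham.gen ee p (z.toRingHom (algebraMap B P c * b e)) (fun t => z.toRingHom (sig X (s t))) = 0 by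
        rw [h0, map_zero]
      by_cases he : e = 0
      · push Not at h
        obtain ⟨ν, -, hν⟩ := h
        obtain ⟨t, ht⟩ := hν (by rw [he]; rfl)
        rw [DeRham.gen, (ιMulti B p).map_coord_zero t, smul_zero]
        rw [ht]
        show ee (z (X ν)) = 0
        rw [hz, map_zero]
      · rw [DeRham.gen, show z.toRingHom (algebraMap B P c * b e) = z (algebraMap B P c) * z (b e) from
          map_mul z _ _, hzb e he, mul_zero, zero_smul]
  refine ⟨fun c hc => ⟨ι i c, ?_, by rw [hψι, sub_self]; exact zero_mem _⟩, fun c' hc' hc'' => ?_⟩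
  · rw [DeRham.cocycles, LinearMap.mem_ker] at hc ⊢
    rw [← hιd, hc, map_zero]
  · rw [DeRham.cocycles, LinearMap.mem_ker] at hc'
    have h1 := (hQc i c' hc').1
    rw [hQψ] at h1
    suffices h2 : ι i (ψ i c') ∈ DeRham.coboundaries dP i by simpa using add_mem h1 h2
    cases i with
    | zero =>
      change ψ 0 c' = 0 at hc''
      rw [hc'', map_zero]; exact zero_mem _
    | succ q =>
      obtain ⟨y, hy⟩ := hc''
      exact ⟨ι q y, by rw [← hιd, hy]⟩

end Groth.Agent.H27DPForms
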