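import Mathlib

/-!
# Divided powers on a square-zero extension

For `(P, I, γ)` and a `P`-module `N`, the ideal `I ⊕ N` of `P ⊕ N` carries the divided powers
`(x + v)^[n] = x^[n] + x^[n-1] v`; divided power morphisms into it are derivations with the rule.
-/

set_option autoImplicit false
universe u v

open Finset

namespace Groth.Agent.H27DPForms

variable {P : Type u} [CommRing P] {N : Type v} [AddCommGroup N] [Module P N] [Module Pᵐᵒᵖ N] [IsCentralScalar P N]
  {I : Ideal P} (γ : DividedPowers I)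

local notation "QQ" => TrivSqZeroExt P N

/-- The ideal `I ⊕ N`. -/
def sqIdeal (I : Ideal P) (N : Type v) [AddCommGroup N] [Module P N] [Module Pᵐᵒᵖ N] [IsCentralScalar P N] :
    Ideal (TrivSqZeroExt P N) :=
  I.comap (TrivSqZeroExt.fstHom P P N).toRingHom

theorem mem_sqIdeal {q : QQ} : q ∈ sqIdeal I N ↔ q.fst ∈ I := Iff.rfl

open Classical in
/-- The divided power operations. -/
noncomputable def sqDpow (n : ℕ) (q : QQ) : QQ :=
  if q.fst ∈ I then
    TrivSqZeroExt.inl (γ.dpow n q.fst) + TrivSqZeroExt.inr (if n = 0 then 0 else γ.dpow (n - 1) q.fst • q.snd)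
  else 0

theorem fst_sqDpow {n : ℕ} {q : QQ} (hq : q.fst ∈ I) : (sqDpow γ n q).fst = γ.dpow n q.fst := by
  simp [sqDpow, hq]

theorem snd_sqDpow {n : ℕ} {q : QQ} (hq : q.fst ∈ I) :
    (sqDpow γ n q).snd = if n = 0 then 0 else γ.dpow (n - 1) q.fst • q.snd := by
  simp [sqDpow, hq]

/-- The divided powers on the square-zero extension. -/
noncomputable def sqDP : DividedPowers (sqIdeal I N) where
  dpow := sqDpow γ
  dpow_null {n q} hq := if_neg fun h => hq h
  dpow_zero {q} hq := by
    replace hq : q.fst ∈ I := hq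
    refine TrivSqZeroExt.ext ?_ ?_
    · rw [fst_sqDpow γ hq, γ.dpow_zero hq, TrivSqZeroExt.fst_one]
    · rw [snd_sqDpow γ hq, if_pos rfl, TrivSqZeroExt.snd_one]
  dpow_one {q} hq := by
    replace hq : q.fst ∈ I := hq
    refine TrivSqZeroExt.ext ?_ ?_
    · rw [fst_sqDpow γ hq, γ.dpow_one hq]
    · rw [snd_sqDpow γ hq, if_neg one_ne_zero, Nat.sub_self, γ.dpow_zero hq, one_smul]
  dpow_mem {n q} hn hq := by
    replace hq : q.fst ∈ I := hq
    show (sqDpow γ n q).fst ∈ I
    rw [fst_sqDpow γ hq]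
    exact γ.dpow_mem hn hq
  dpow_add {n x y} hx hy := by
    replace hx : x.fst ∈ I := hx
    replace hy : y.fst ∈ I := hy
    have hxy : (x + y).fst ∈ I := by rw [TrivSqZeroExt.fst_add]; exact add_mem hx hy
    refine TrivSqZeroExt.ext ?_ ?_
    · rw [fst_sqDpow γ hxy, TrivSqZeroExt.fst_add, γ.dpow_add hx hy, TrivSqZeroExt.fst_sum]
      exact sum_congr rfl fun k _ => by rw [TrivSqZeroExt.fst_mul, fst_sqDpow γ hx, fst_sqDpow γ hy]
    · rw [snd_sqDpow γ hxy, TrivSqZeroExt.snd_sum, sum_congr rfl fun k _ => by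
        rw [TrivSqZeroExt.snd_mul, fst_sqDpow γ hx, fst_sqDpow γ hy, snd_sqDpow γ hx, snd_sqDpow γ hy,
          op_smul_eq_smul]]
      rw [sum_add_distrib]
      cases n with
      | zero => simp
      | succ m =>
        rw [if_neg m.succ_ne_zero, Nat.add_sub_cancel, TrivSqZeroExt.fst_add, TrivSqZeroExt.snd_add,
          γ.dpow_add hx hy, sum_smul, sum_congr rfl fun k _ => smul_add _ _ _, sum_add_distrib, add_comm]
        congr 1
        · rw [Nat.sum_antidiagonal_succ']
          simp only [if_pos, smul_zero, if_neg (Nat.succ_ne_zero _), Nat.add_sub_cancel, zero_add, add_zero,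
            smul_smul]
        · rw [Nat.sum_antidiagonal_succ]
          simp only [if_pos, smul_zero, if_neg (Nat.succ_ne_zero _), Nat.add_sub_cancel, zero_add, smul_smul]
          exact sum_congr rfl fun k _ => by rw [mul_comm]
  dpow_mul {n a x} hx := by
    replace hx : x.fst ∈ I := hx
    have hax : (a * x).fst ∈ I := by rw [TrivSqZeroExt.fst_mul]; exact I.mul_mem_left _ hx
    refine TrivSqZeroExt.ext ?_ ?_
    · rw [fst_sqDpow γ hax, TrivSqZeroExt.fst_mul, γ.dpow_mul hx, TrivSqZeroExt.fst_mul, fst_sqDpow γ hx,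
        TrivSqZeroExt.fst_pow]
    · rw [snd_sqDpow γ hax, TrivSqZeroExt.fst_mul, TrivSqZeroExt.snd_mul, TrivSqZeroExt.snd_mul,
        TrivSqZeroExt.fst_pow, TrivSqZeroExt.snd_pow, fst_sqDpow γ hx, snd_sqDpow γ hx, op_smul_eq_smul,
        op_smul_eq_smul]
      cases n with
      | zero => simp
      | succ m =>
        rw [if_neg m.succ_ne_zero, if_neg m.succ_ne_zero, Nat.add_sub_cancel, Nat.pred_succ, γ.dpow_mul hx,
          smul_add, smul_smul, smul_smul, smul_smul, ← Nat.cast_smul_eq_nsmul P, smul_smul, smul_smul]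
        congr 2
        · rw [pow_succ]; ring
        · have h := γ.mul_dpow (m := 1) (n := m) hx
          rw [γ.dpow_one hx, add_comm 1 m, Nat.choose_one_right] at h
          push_cast at h ⊢
          linear_combination (a.fst ^ m) * h
  mul_dpow {m n x} hx := by
    replace hx : x.fst ∈ I := hx
    refine TrivSqZeroExt.ext ?_ ?_
    · rw [TrivSqZeroExt.fst_mul, TrivSqZeroExt.fst_mul, fst_sqDpow γ hx, fst_sqDpow γ hx, fst_sqDpow γ hx,
        TrivSqZeroExt.fst_natCast, γ.mul_dpow hx]
    · rw [TrivSqZeroExt.snd_mul, TrivSqZeroExt.snd_mul, fst_sqDpow γ hx, fst_sqDpow γ hx, fst_sqDpow γ hx,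
        TrivSqZeroExt.fst_natCast, TrivSqZeroExt.snd_natCast, snd_sqDpow γ hx, snd_sqDpow γ hx, snd_sqDpow γ hx,
        op_smul_eq_smul, op_smul_eq_smul, smul_zero, add_zero]
      rcases m with - | m
      · rcases n with - | n
        · simp
        · simp [γ.dpow_zero hx]
      · rcases n with - | n
        · simp [γ.dpow_zero hx]
        · simp only [Nat.succ_ne_zero, if_false, Nat.add_sub_cancel,
            show m + 1 + (n + 1) - 1 = m + n + 1 by omega, show m + 1 + (n + 1) ≠ 0 by omega]
          rw [smul_smul, smul_smul, smul_smul, ← add_smul, γ.mul_dpow hx, γ.mul_dpow hx,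
            show m + 1 + n = m + n + 1 by omega, show n + 1 + m = m + n + 1 by omega, ← add_mul, ← Nat.cast_add]
          congr 3
          have h2 : Nat.choose (m + n + 1) (n + 1) = Nat.choose (m + n + 1) m := Nat.choose_symm_of_eq_add (by omega)
          rw [show m + 1 + (n + 1) = (m + n + 1) + 1 by omega, Nat.choose_succ_succ (m + n + 1) m, h2]
          ring
  dpow_comp {m n x} hn hx := by
    replace hx : x.fst ∈ I := hx
    have hd : (sqDpow γ n x).fst ∈ I := by rw [fst_sqDpow γ hx]; exact γ.dpow_mem hn hx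
    refine TrivSqZeroExt.ext ?_ ?_
    · rw [fst_sqDpow γ hd, fst_sqDpow γ hx, TrivSqZeroExt.fst_mul, TrivSqZeroExt.fst_natCast, fst_sqDpow γ hx,
        γ.dpow_comp hn hx]
    · rw [snd_sqDpow γ hd, fst_sqDpow γ hx, snd_sqDpow γ hx, if_neg hn, TrivSqZeroExt.snd_mul,
        TrivSqZeroExt.fst_natCast, TrivSqZeroExt.snd_natCast, smul_zero, add_zero, snd_sqDpow γ hx]
      cases m with
      | zero => simp
      | succ l =>
        have hne : (l + 1) * n ≠ 0 := Nat.mul_ne_zero l.succ_ne_zero hn
        rw [if_neg l.succ_ne_zero, if_neg hne, Nat.add_sub_cancel, smul_smul, smul_smul, γ.dpow_comp hn hx,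
          mul_assoc, γ.mul_dpow hx, ← mul_assoc, ← Nat.cast_mul]
        rw [show l * n + (n - 1) = (l + 1) * n - 1 by rw [add_mul, one_mul]; omega]
        congr 3
        rw [Nat.uniformBell_succ_left, mul_comm (Nat.uniformBell l n)]
        congr 1
        rw [show l * n + n - 1 = (l + 1) * n - 1 by rw [add_mul, one_mul]]
        exact Nat.choose_symm_of_eq_add (by rw [add_mul, one_mul]; omega)

theorem sqDP_dpow (n : ℕ) (q : QQ) : (sqDP (N := N) γ).dpow n q = sqDpow γ n q := rfl

end Groth.Agent.H27DPForms
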